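/-
Helper56 library: the group `Suz` on 1782 points (certificate of helper28): images of points,
the base `0, 1, 2, 160` of the stabiliser chain, and the exact orbits of the stabilisers of
the chain.  (The orbit argument follows the one of helper7 for `He`.)
-/
import Cfsg.Agent.Helper28.SZ.Simple
import Cfsg.Agent.Helper28.TCL3

set_option autoImplicit false

namespace Cfsg.Agent.Helper56.SuzOut

open Cfsg.Agent.Helper28

/-- the value of a generator column -/
noncomputable abbrev gv (k : ℕ) : Cfsg.Spor.Suz :=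
  coxVal Cfsg.Spor.Suz.edges Cfsg.Spor.Suz.extra C1680.gen C1680.D.jc k

/-- the value of a word -/
noncomputable abbrev wv (l : List ℕ) : Cfsg.Spor.Suz := (l.map gv).prod

theorem wv_append (l1 l2 : List ℕ) : wv (l1 ++ l2) = wv l1 * wv l2 := by
  show ((l1 ++ l2).map gv).prod = (l1.map gv).prod * (l2.map gv).prod
  rw [List.map_append, List.prod_append]

theorem jc_eq : C1680.D.jc = 7 := by decide +kernel

theorem gv_sq (k : ℕ) (hk : k < 7) : gv k * gv k = 1 :=
  C1680.cert.valInv k (by rw [jc_eq]; omega)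

theorem gv_inv (k : ℕ) (hk : k < 7) : (gv k)⁻¹ = gv k :=
  (eq_inv_of_mul_eq_one_left (gv_sq k hk)).symm

theorem wv_reverse (l : List ℕ) (hl : ∀ a ∈ l, a < 7) : wv l.reverse = (wv l)⁻¹ := by
  induction l with
  | nil => simp [wv]
  | cons a l ih =>
    rw [List.reverse_cons, wv_append, ih (fun b hb => hl b (List.mem_cons_of_mem _ hb))]
    show (wv l)⁻¹ * (gv a * 1) = (gv a * wv l)⁻¹
    rw [mul_one, mul_inv_rev, gv_inv a (hl a List.mem_cons_self)]

/-- the image of the point `b` under `x` -/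
noncomputable def pt (x : Cfsg.Spor.Suz) (b : ℕ) : ℕ :=
  if h : b < 1782 then ((C1680.cert.perm x ⟨b, h⟩ : Fin 1782) : ℕ) else b

theorem pt_of_lt (x : Cfsg.Spor.Suz) {b : ℕ} (hb : b < 1782) :
    pt x b = ((C1680.cert.perm x ⟨b, hb⟩ : Fin 1782) : ℕ) := dif_pos hb

theorem pt_of_ge (x : Cfsg.Spor.Suz) {b : ℕ} (hb : ¬ b < 1782) : pt x b = b := dif_neg hb

theorem pt_lt (x : Cfsg.Spor.Suz) {b : ℕ} (hb : b < 1782) : pt x b < 1782 := by
  rw [pt_of_lt x hb]
  exact Fin.isLt _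

theorem pt_one (b : ℕ) : pt 1 b = b := by
  by_cases h : b < 1782
  · rw [pt_of_lt _ h, map_one]; rfl
  · exact pt_of_ge _ h

theorem pt_mul (x y : Cfsg.Spor.Suz) (b : ℕ) : pt (x * y) b = pt x (pt y b) := by
  by_cases h : b < 1782
  · rw [pt_of_lt _ h, pt_of_lt y h, pt_of_lt x (Fin.isLt _), map_mul, Equiv.Perm.mul_apply]
  · rw [pt_of_ge _ h, pt_of_ge y h, pt_of_ge x h]

theorem pt_inv_cancel (x : Cfsg.Spor.Suz) (p : ℕ) : pt x⁻¹ (pt x p) = p := by
  rw [← pt_mul, inv_mul_cancel, pt_one]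

theorem pt_cancel_inv (x : Cfsg.Spor.Suz) (p : ℕ) : pt x (pt x⁻¹ p) = p := by
  rw [← pt_mul, mul_inv_cancel, pt_one]

theorem pt_wv (l : List ℕ) (hl : ∀ a ∈ l, a < 7) {b : ℕ} (hb : b < 1782) :
    pt (wv l) b = walkA C1680.T l b := by
  rw [pt_of_lt _ hb]
  exact C1680.cert.perm_list l (fun a ha => by rw [jc_eq]; exact hl a ha) ⟨b, hb⟩

theorem pt_gv (k : ℕ) (hk : k < 7) {p : ℕ} (hp : p < 1782) : pt (gv k) p = C1680.T k p := by
  rw [pt_of_lt _ hp]
  exact C1680.cert.perm_val k (by rw [jc_eq]; exact hk) ⟨p, hp⟩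

theorem walk_lt (l : List ℕ) (hl : ∀ a ∈ l, a < 7) {b : ℕ} (hb : b < 1782) :
    walkA C1680.T l b < 1782 := by
  rw [← pt_wv l hl hb]; exact pt_lt _ hb

theorem ov2_zero : SZL1.ov2 0 = 1 := by decide +kernel
theorem ov3_zero : SZL1.ov3 0 = 2 := by decide +kernel
theorem ov4_zero : SZL1.ov4 0 = 160 := by decide +kernel

theorem mem_fixSub_of_pt (x : Cfsg.Spor.Suz) (bs : List ℕ) (h : ∀ b ∈ bs, pt x b = b) :
    x ∈ fixSub C1680.cert.perm bs := by
  intro b hb i hi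
  apply Fin.ext
  have hp := pt_of_lt x i.2
  rw [← hp, hi]
  exact h b hb

theorem pt_of_mem_fixSub {x : Cfsg.Spor.Suz} {bs : List ℕ} (h : x ∈ fixSub C1680.cert.perm bs)
    {b : ℕ} (hb : b ∈ bs) (hlt : b < 1782) : pt x b = b := by
  rw [pt_of_lt x hlt]
  exact congrArg Fin.val (h b hb ⟨b, hlt⟩ rfl)

/-! ### the chain -/

theorem cards :
    Nat.card (fixSub C1680.cert.perm [0]) = 1365 * 1024 * 180 ∧
    Nat.card (fixSub C1680.cert.perm [SZL1.ov2 0, 0]) = 1024 * 180 ∧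
    Nat.card (fixSub C1680.cert.perm [SZL1.ov3 0, SZL1.ov2 0, 0]) = 180 ∧
    Nat.card (fixSub C1680.cert.perm [SZL1.ov4 0, SZL1.ov3 0, SZL1.ov2 0, 0]) = 1 := by
  have := SZ.finite
  have h1 := C1680.cert.lb_top
  rw [SZ.card_eq] at h1
  have h2 := C1680.cert.lb_level [0] SZL1.W2 1365 SZL1.ov2 SZL1.op2 SZL1.otp2 SZL1.otw2
    SZL1.fix2 SZL1.lb2_all
  have h3 := C1680.cert.lb_level [SZL1.ov2 0, 0] SZL1.W3 1024 SZL1.ov3 SZL1.op3 SZL1.otp3
    SZL1.otw3 SZL1.fix3 SZL1.lb3_all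
  have h4 := C1680.cert.lb_level [SZL1.ov3 0, SZL1.ov2 0, 0] SZL1.W4 180 SZL1.ov4 SZL1.op4
    SZL1.otp4 SZL1.otw4 SZL1.fix4 SZL1.lb4_all
  have h5 : 0 < Nat.card (fixSub C1680.cert.perm [SZL1.ov4 0, SZL1.ov3 0, SZL1.ov2 0, 0]) :=
    Nat.card_pos
  omega

theorem fix_bot : fixSub C1680.cert.perm [SZL1.ov4 0, SZL1.ov3 0, SZL1.ov2 0, 0] = ⊥ := by
  have := SZ.finite
  apply Subgroup.eq_bot_of_card_le
  rw [cards.2.2.2]

theorem eq_one_of_base (x : Cfsg.Spor.Suz) (h0 : pt x 0 = 0) (h1 : pt x 1 = 1)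
    (h2 : pt x 2 = 2) (h3 : pt x 160 = 160) : x = 1 := by
  have hmem : x ∈ fixSub C1680.cert.perm [SZL1.ov4 0, SZL1.ov3 0, SZL1.ov2 0, 0] := by
    apply mem_fixSub_of_pt
    intro b hb
    rw [ov4_zero, ov3_zero, ov2_zero] at hb
    simp only [List.mem_cons, List.not_mem_nil, or_false] at hb
    rcases hb with rfl | rfl | rfl | rfl
    · exact h3
    · exact h2
    · exact h1
    · exact h0
  rw [fix_bot] at hmem
  exact Subgroup.mem_bot.mp hmem

theorem eq_of_base (x y : Cfsg.Spor.Suz) (h0 : pt x 0 = pt y 0) (h1 : pt x 1 = pt y 1)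
    (h2 : pt x 2 = pt y 2) (h3 : pt x 160 = pt y 160) : x = y := by
  have h : y⁻¹ * x = 1 := by
    apply eq_one_of_base
    · rw [pt_mul, h0, pt_inv_cancel]
    · rw [pt_mul, h1, pt_inv_cancel]
    · rw [pt_mul, h2, pt_inv_cancel]
    · rw [pt_mul, h3, pt_inv_cancel]
  exact (inv_mul_eq_one.mp h).symm

theorem beq_zero_false {q : ℕ} (h : q ≠ 0) : Nat.beq q 0 = false := by
  cases hb : Nat.beq q 0 with
  | false => rfl
  | true => exact absurd (Nat.eq_of_beq_eq_true hb) h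

/-- the facts checked by `fixChk` and `lbPt` -/
theorem lb_facts (bs : List ℕ) (W : List (List ℕ)) (m : ℕ) (ov op otp otw : ℕ → ℕ)
    (hW : Cfsg.Agent.Helper28.fixChk C1680.T C1680.D.jc W bs = true)
    (hO : ∀ t, t < m → lbPt C1680.T 1782 W ov op otp otw t = true) :
    (∀ t, t < m → ov t < 1782 ∧ op (ov t) = t) ∧
    (∀ t, 0 < t → t < m → otp t < t ∧ walkA C1680.T (nthL W (otw t)) (ov (otp t)) = ov t) ∧
    (∀ i, (∀ a ∈ nthL W i, a < 7) ∧ ∀ b ∈ bs, walkA C1680.T (nthL W i) b = b) := by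
  refine ⟨?_, ?_, ?_⟩
  · intro t ht
    have := hO t ht
    unfold lbPt at this
    simp only [Bool.and_eq_true] at this
    exact ⟨Nat.blt_eq.mp this.1, Nat.eq_of_beq_eq_true this.2.1⟩
  · intro t ht0 ht
    have := hO t ht
    unfold lbPt at this
    simp only [Bool.and_eq_true] at this
    have h4 := this.2.2
    rw [beq_zero_false (Nat.pos_iff_ne_zero.mp ht0)] at h4
    simp only [cond_false, Bool.and_eq_true] at h4
    exact ⟨Nat.blt_eq.mp h4.1, Nat.eq_of_beq_eq_true h4.2⟩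
  · intro i
    rcases nthL_mem_or W i with hnil | hmem
    · rw [hnil]
      exact ⟨fun a ha => absurd ha (by simp), fun b _ => rfl⟩
    · have := (listAll_iff _ _).mp hW _ hmem
      rw [Bool.and_eq_true] at this
      exact ⟨fun a ha => by
          have := Nat.blt_eq.mp ((listAll_iff _ _).mp this.1 a ha)
          rwa [jc_eq] at this,
        fun b hb => Nat.eq_of_beq_eq_true ((listAll_iff _ _).mp this.2 b hb)⟩

theorem lvl (bs : List ℕ) (hbs : ∀ b ∈ bs, b < 1782) (W : List (List ℕ)) (m : ℕ)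
    (ov op otp otw : ℕ → ℕ)
    (hW : Cfsg.Agent.Helper28.fixChk C1680.T C1680.D.jc W bs = true)
    (hO : ∀ t, t < m → lbPt C1680.T 1782 W ov op otp otw t = true) :
    ∀ t, t < m → ∃ x ∈ fixSub C1680.cert.perm bs, pt x (ov 0) = ov t := by
  obtain ⟨h1, h3, hWl⟩ := lb_facts bs W m ov op otp otw hW hO
  intro t
  induction t using Nat.strong_induction_on with
  | _ t ih =>
    intro hlt
    by_cases h0 : t = 0
    · subst h0
      exact ⟨1, Subgroup.one_mem _, pt_one _⟩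
    · obtain ⟨hpar, hwalk⟩ := h3 t (Nat.pos_of_ne_zero h0) hlt
      obtain ⟨x', hx', f3⟩ := ih (otp t) hpar (by omega)
      obtain ⟨hlet, hfixb⟩ := hWl (otw t)
      have hmem : wv (nthL W (otw t)) ∈ fixSub C1680.cert.perm bs := by
        apply mem_fixSub_of_pt
        intro b hb
        rw [pt_wv _ hlet (hbs b hb)]
        exact hfixb b hb
      refine ⟨wv (nthL W (otw t)) * x', Subgroup.mul_mem _ hmem hx', ?_⟩
      rw [pt_mul, f3, pt_wv _ hlet (h1 _ (by omega)).1, hwalk]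

/-- The orbit of the point `ov 0` under the stabiliser of `bs` is the list `ov`, when the order
of the stabiliser is small enough. -/
theorem orbit_exact (bs : List ℕ) (hbs : ∀ b ∈ bs, b < 1782) (W : List (List ℕ)) (m : ℕ)
    (ov op otp otw : ℕ → ℕ)
    (hW : Cfsg.Agent.Helper28.fixChk C1680.T C1680.D.jc W bs = true)
    (hO : ∀ t, t < m → lbPt C1680.T 1782 W ov op otp otw t = true) (hm : 0 < m)
    (hcard : Nat.card (fixSub C1680.cert.perm bs) <
      (m + 1) * Nat.card (fixSub C1680.cert.perm (ov 0 :: bs)))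
    (n : Cfsg.Spor.Suz) (hn : n ∈ fixSub C1680.cert.perm bs) :
    ∃ t, t < m ∧ pt n (ov 0) = ov t := by
  have := SZ.finite
  obtain ⟨h1, _, _⟩ := lb_facts bs W m ov op otp otw hW hO
  by_contra hne0
  have hne : ∀ t, t < m → pt n (ov 0) ≠ ov t := fun t ht h => hne0 ⟨t, ht, h⟩
  have hx : ∀ t, ∃ x : Cfsg.Spor.Suz, x ∈ fixSub C1680.cert.perm bs ∧
      (t < m → pt x (ov 0) = ov t) ∧ (¬ t < m → x = n) := by
    intro t
    by_cases ht : t < m
    · obtain ⟨x, hx, e⟩ := lvl bs hbs W m ov op otp otw hW hO t ht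
      exact ⟨x, hx, fun _ => e, fun h => absurd ht h⟩
    · exact ⟨n, hn, fun h => absurd h ht, fun _ => rfl⟩
  choose r hr1 hr2 hr3 using hx
  have h0lt : ov 0 < 1782 := (h1 0 hm).1
  have key := lb_step (fixSub C1680.cert.perm bs) (fixSub C1680.cert.perm (ov 0 :: bs)) (m + 1) r
    (fun t _ => hr1 t) (fixSub_cons_le _ _ _) (by
      intro s t hs ht hmem
      have e := pt_of_mem_fixSub hmem (List.mem_cons_self) h0lt
      rw [pt_mul] at e
      have e2 : pt (r t) (ov 0) = pt (r s) (ov 0) := by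
        have := congrArg (pt (r s)) e
        rwa [pt_cancel_inv] at this
      by_cases hs' : s < m
      · by_cases ht' : t < m
        · rw [hr2 s hs', hr2 t ht'] at e2
          rw [← (h1 s hs').2, ← (h1 t ht').2, e2]
        · rw [hr3 t ht', hr2 s hs'] at e2
          exact absurd e2 (hne s hs')
      · by_cases ht' : t < m
        · rw [hr3 s hs', hr2 t ht'] at e2
          exact absurd e2.symm (hne t ht')
        · omega)
  omega

theorem orb2 (n : Cfsg.Spor.Suz) (h0 : pt n 0 = 0) : ∃ t, t < 1365 ∧ pt n 1 = SZL1.ov2 t := by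
  have hn : n ∈ fixSub C1680.cert.perm [0] := by
    apply mem_fixSub_of_pt
    intro b hb
    rw [List.mem_singleton] at hb
    rw [hb]; exact h0
  have h := orbit_exact [0] (by intro b hb; rw [List.mem_singleton] at hb; rw [hb]; norm_num)
    SZL1.W2 1365 SZL1.ov2 SZL1.op2 SZL1.otp2 SZL1.otw2 SZL1.fix2 SZL1.lb2_all (by norm_num) (by
      rw [cards.1, cards.2.1]; norm_num) n hn
  rw [ov2_zero] at h
  exact h

theorem orb3 (n : Cfsg.Spor.Suz) (h0 : pt n 0 = 0) (h1 : pt n 1 = 1) :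
    ∃ t, t < 1024 ∧ pt n 2 = SZL1.ov3 t := by
  have hn : n ∈ fixSub C1680.cert.perm [SZL1.ov2 0, 0] := by
    apply mem_fixSub_of_pt
    intro b hb
    rw [ov2_zero] at hb
    simp only [List.mem_cons, List.not_mem_nil, or_false] at hb
    rcases hb with rfl | rfl
    · exact h1
    · exact h0
  have h := orbit_exact [SZL1.ov2 0, 0] (by
      intro b hb
      rw [ov2_zero] at hb
      simp only [List.mem_cons, List.not_mem_nil, or_false] at hb
      rcases hb with rfl | rfl <;> norm_num)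
    SZL1.W3 1024 SZL1.ov3 SZL1.op3 SZL1.otp3 SZL1.otw3 SZL1.fix3 SZL1.lb3_all (by norm_num) (by
      rw [cards.2.1, cards.2.2.1]; norm_num) n hn
  rw [ov3_zero] at h
  exact h

theorem orb4 (n : Cfsg.Spor.Suz) (h0 : pt n 0 = 0) (h1 : pt n 1 = 1) (h2 : pt n 2 = 2) :
    ∃ t, t < 180 ∧ pt n 160 = SZL1.ov4 t := by
  have hn : n ∈ fixSub C1680.cert.perm [SZL1.ov3 0, SZL1.ov2 0, 0] := by
    apply mem_fixSub_of_pt
    intro b hb
    rw [ov3_zero, ov2_zero] at hb
    simp only [List.mem_cons, List.not_mem_nil, or_false] at hb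
    rcases hb with rfl | rfl | rfl
    · exact h2
    · exact h1
    · exact h0
  have h := orbit_exact [SZL1.ov3 0, SZL1.ov2 0, 0] (by
      intro b hb
      rw [ov3_zero, ov2_zero] at hb
      simp only [List.mem_cons, List.not_mem_nil, or_false] at hb
      rcases hb with rfl | rfl | rfl <;> norm_num)
    SZL1.W4 180 SZL1.ov4 SZL1.op4 SZL1.otp4 SZL1.otw4 SZL1.fix4 SZL1.lb4_all (by norm_num) (by
      rw [cards.2.2.1, cards.2.2.2]; norm_num) n hn
  rw [ov4_zero] at h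
  exact h

/-- the position tables invert the orbit lists -/
theorem op2_ov2 (t : ℕ) (ht : t < 1365) : SZL1.op2 (SZL1.ov2 t) = t :=
  ((lb_facts [0] SZL1.W2 1365 SZL1.ov2 SZL1.op2 SZL1.otp2 SZL1.otw2 SZL1.fix2 SZL1.lb2_all).1
    t ht).2

theorem op3_ov3 (t : ℕ) (ht : t < 1024) : SZL1.op3 (SZL1.ov3 t) = t :=
  ((lb_facts [SZL1.ov2 0, 0] SZL1.W3 1024 SZL1.ov3 SZL1.op3 SZL1.otp3 SZL1.otw3 SZL1.fix3
    SZL1.lb3_all).1 t ht).2

theorem op4_ov4 (t : ℕ) (ht : t < 180) : SZL1.op4 (SZL1.ov4 t) = t :=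
  ((lb_facts [SZL1.ov3 0, SZL1.ov2 0, 0] SZL1.W4 180 SZL1.ov4 SZL1.op4 SZL1.otp4 SZL1.otw4
    SZL1.fix4 SZL1.lb4_all).1 t ht).2

end Cfsg.Agent.Helper56.SuzOut
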