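/-
Helper56 library: kernel-checkable certificates for the elements `h` of `Suz` with
`h * s = s' * h`, where four points of one cycle of `s` are the images of the base of the
stabiliser chain: such an `h` is determined by the image `y` of one point, and for each `y`
a certificate names the element, or shows through the exact orbits of the chain that no
element of the group has the required images.
-/
import Cfsg.Agent.Helper56.Suz.Base

set_option autoImplicit false

namespace Cfsg.Agent.Helper56.SuzOut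

open Cfsg.Agent.Helper28

/-- `f x`, with `x` evaluated first. -/
noncomputable def natLetB (x : ℕ) (f : ℕ → Bool) : Bool :=
  Nat.rec (f 0) (fun k _ => f (Nat.succ k)) x

theorem natLetB_eq (x : ℕ) (f : ℕ → Bool) : natLetB x f = f x := by
  cases x <;> rfl

/-- `f x`, with `x` evaluated first. -/
noncomputable def natLetN (x : ℕ) (f : ℕ → ℕ) : ℕ :=
  Nat.rec (f 0) (fun k _ => f (Nat.succ k)) x

theorem natLetN_eq (x : ℕ) (f : ℕ → ℕ) : natLetN x f = f x := by
  cases x <;> rfl

/-- Check of a property on the range `[s, s + 2^d)` by binary splitting. -/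
noncomputable def rgAll (p : ℕ → Bool) : ℕ → ℕ → Bool
  | 0, s => natLetB s p
  | d + 1, s => natLetB s fun s' => rgAll p d s' && rgAll p d (Nat.add s' (Nat.pow 2 d))

theorem rgAll_spec (p : ℕ → Bool) (d s : ℕ) (h : rgAll p d s = true) :
    ∀ c, s ≤ c → c < s + 2 ^ d → p c = true := by
  induction d generalizing s with
  | zero =>
    intro c h1 h2
    have hc : c = s := by omega
    subst hc
    have h' : natLetB c p = true := h
    rwa [natLetB_eq] at h'
  | succ d ih =>
    intro c h1 h2
    have h' : natLetB s (fun s' => rgAll p d s' && rgAll p d (Nat.add s' (Nat.pow 2 d))) = true := h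
    rw [natLetB_eq, Bool.and_eq_true] at h'
    by_cases hc : c < s + 2 ^ d
    · exact ih s h'.1 c h1 hc
    · exact ih _ h'.2 c (by show s + 2 ^ d ≤ c; omega)
        (by show c < s + 2 ^ d + 2 ^ d; rw [pow_succ] at h2; omega)

/-- A range checked in blocks of `2 ^ d`. -/
theorem rg_cover (p : ℕ → Bool) (d K : ℕ) (h : ∀ k, k < K → rgAll p d (2 ^ d * k) = true) (i : ℕ)
    (hi : i < 2 ^ d * K) : p i = true := by
  have hk : i / 2 ^ d < K := Nat.div_lt_of_lt_mul hi
  have h1 := Nat.lt_mul_div_succ i (show 0 < 2 ^ d by positivity)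
  exact rgAll_spec p d _ (h _ hk) i (Nat.mul_div_le i (2 ^ d))
    (by rw [Nat.mul_succ] at h1; exact h1)

theorem walkA_append (T : ℕ → ℕ → ℕ) (l1 l2 : List ℕ) (i : ℕ) :
    walkA T (l1 ++ l2) i = walkA T l1 (walkA T l2 i) := by
  induction l1 with
  | nil => rfl
  | cons a l ih => rw [List.cons_append, walkA_cons, walkA_cons, ih]

/-! ### packed words -/

/-- the letters of a packed word: three bits per letter, holding the letter plus one; the
lowest three bits are the last letter -/
def unpackW : ℕ → ℕ → List ℕ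
  | 0, _ => []
  | f + 1, w => if w = 0 then [] else
      unpackW f (Nat.shiftRight w 3) ++ [Nat.pred (Nat.land w 7)]

theorem unpackW_lt (f w : ℕ) : ∀ a ∈ unpackW f w, a < 7 := by
  induction f generalizing w with
  | zero => intro a ha; simp [unpackW] at ha
  | succ f ih =>
    intro a ha
    unfold unpackW at ha
    split_ifs at ha with h0
    · simp at ha
    · rcases List.mem_append.mp ha with h | h
      · exact ih _ a h
      · rw [List.mem_singleton] at h
        have h7 : Nat.land w 7 ≤ 7 := Nat.and_le_right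
        rw [h, Nat.pred_eq_sub_one]
        omega

/-- the image of a point under a packed word -/
noncomputable def walkP (T : ℕ → ℕ → ℕ) (fuel : ℕ) : ℕ → ℕ → ℕ :=
  Nat.rec (motive := fun _ => ℕ → ℕ → ℕ) (fun _ i => i)
    (fun _ ih w i => natLetN w fun w1 => cond (Nat.beq w1 0) i
      (natLetN (T (Nat.pred (Nat.land w1 7)) i) fun i1 => ih (Nat.shiftRight w1 3) i1)) fuel

theorem walkP_succ (T : ℕ → ℕ → ℕ) (f w i : ℕ) : walkP T (f + 1) w i =
    cond (Nat.beq w 0) i (walkP T f (Nat.shiftRight w 3) (T (Nat.pred (Nat.land w 7)) i)) := by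
  show natLetN w (fun w1 => cond (Nat.beq w1 0) i
    (natLetN (T (Nat.pred (Nat.land w1 7)) i) fun i1 => walkP T f (Nat.shiftRight w1 3) i1)) = _
  rw [natLetN_eq, natLetN_eq]

theorem walkP_eq (T : ℕ → ℕ → ℕ) (f w i : ℕ) : walkP T f w i = walkA T (unpackW f w) i := by
  induction f generalizing w i with
  | zero => rfl
  | succ f ih =>
    rw [walkP_succ]
    unfold unpackW
    by_cases h0 : w = 0
    · subst h0; rfl
    · rw [if_neg h0, beq_zero_false h0, cond_false, ih, walkA_append]; rfl

/-- the value of a packed word -/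
noncomputable abbrev wvP (w : ℕ) : Cfsg.Spor.Suz := wv (unpackW 1024 w)

/-- the image of a point under a packed word, on the table of helper28 -/
noncomputable abbrev wk (H i : ℕ) : ℕ := walkP C1680.T 1024 H i

theorem pt_wvP (w : ℕ) {b : ℕ} (hb : b < 1782) : pt (wvP w) b = wk w b := by
  rw [pt_wv _ (unpackW_lt _ _) hb]
  exact (walkP_eq _ _ _ _).symm

theorem wk_lt (w : ℕ) {b : ℕ} (hb : b < 1782) : wk w b < 1782 := by
  rw [← pt_wvP w hb]; exact pt_lt _ hb

/-! ### packed permutation tables -/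

/-- entry `i` of a packed table with fields of 11 bits -/
def tabAt (N i : ℕ) : ℕ := Nat.land (Nat.shiftRight N (Nat.mul 11 i)) 2047

/-- the image of `y` under the `e`-th power of a table -/
noncomputable def iterT (N e y : ℕ) : ℕ :=
  Nat.rec (motive := fun _ => ℕ) y (fun _ ih => natLetN ih (tabAt N)) e

theorem iterT_zero (N y : ℕ) : iterT N 0 y = y := rfl

theorem iterT_succ (N e y : ℕ) : iterT N (e + 1) y = tabAt N (iterT N e y) := by
  show natLetN (iterT N e y) (tabAt N) = _
  rw [natLetN_eq]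

theorem iterT_lt {N : ℕ} {s : Cfsg.Spor.Suz} (hS : ∀ i, i < 1782 → pt s i = tabAt N i)
    (e : ℕ) {z : ℕ} (hz : z < 1782) : iterT N e z < 1782 := by
  induction e with
  | zero => exact hz
  | succ e ih => rw [iterT_succ, ← hS _ ih]; exact pt_lt _ ih

theorem pt_pow_tab {N : ℕ} {s : Cfsg.Spor.Suz} (hS : ∀ i, i < 1782 → pt s i = tabAt N i)
    (e : ℕ) {z : ℕ} (hz : z < 1782) : pt (s ^ e) z = iterT N e z := by
  induction e with
  | zero => rw [pow_zero, pt_one]; rfl
  | succ e ih => rw [pow_succ', pt_mul, ih, hS _ (iterT_lt hS e hz), iterT_succ]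

/-! ### the certificates -/

/-- `z` is not in the orbit list -/
noncomputable def notOrb (ov op : ℕ → ℕ) (m z : ℕ) : Bool :=
  natLetB (op z) fun p => Nat.ble m p || !(Nat.beq (ov p) z)

theorem notOrb_spec (ov op : ℕ → ℕ) (m z : ℕ) (hinv : ∀ t, t < m → op (ov t) = t)
    (h : notOrb ov op m z = true) : ∀ t, t < m → ov t ≠ z := by
  intro t ht e
  unfold notOrb at h
  rw [natLetB_eq, Bool.or_eq_true] at h
  have hop : op z = t := by rw [← e]; exact hinv t ht
  rcases h with h | h
  · have := Nat.le_of_ble_eq_true h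
    omega
  · rw [hop, e, Nat.beq_refl] at h
    exact absurd h (by decide)

/-- the element is number `z` of the list -/
noncomputable def chkGood (K : ℕ) (Ll : List ℕ) (u1 u2 u3 u4 t1 t2 t3 t4 z : ℕ) : Bool :=
  natLetB (nthN Ll z) fun H0 => Nat.blt z K && (Nat.beq (wk H0 u1) t1 && (Nat.beq (wk H0 u2) t2 &&
    (Nat.beq (wk H0 u3) t3 && Nat.beq (wk H0 u4) t4)))

/-- the only candidate does not satisfy the equation at the point `z` -/
noncomputable def chkBad (TS TS' u1 u2 u3 u4 t1 t2 t3 t4 z H : ℕ) : Bool :=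
  Nat.blt z 1782 && (Nat.beq (wk H u1) t1 && (Nat.beq (wk H u2) t2 && (Nat.beq (wk H u3) t3 &&
    (Nat.beq (wk H u4) t4 && !(Nat.beq (wk H (tabAt TS z)) (tabAt TS' (wk H z)))))))

noncomputable def chkNeg2 (t1 t2 H : ℕ) : Bool :=
  Nat.beq (wk H t1) 0 && notOrb SZL1.ov2 SZL1.op2 1365 (wk H t2)

noncomputable def chkNeg3 (t1 t2 t3 H : ℕ) : Bool :=
  Nat.beq (wk H t1) 0 && (Nat.beq (wk H t2) 1 && notOrb SZL1.ov3 SZL1.op3 1024 (wk H t3))

noncomputable def chkNeg4 (t1 t2 t3 t4 H : ℕ) : Bool :=
  Nat.beq (wk H t1) 0 && (Nat.beq (wk H t2) 1 && (Nat.beq (wk H t3) 2 &&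
    notOrb SZL1.ov4 SZL1.op4 180 (wk H t4)))

/-- the check of the certificate `c` for the image `y` -/
noncomputable def candChk (TS TS' u1 u2 u3 u4 e1 e2 e3 e4 K : ℕ) (Ll : List ℕ) (c y : ℕ) : Bool :=
  natLetB (iterT TS' e1 y) fun t1 => natLetB (iterT TS' e2 y) fun t2 =>
  natLetB (iterT TS' e3 y) fun t3 => natLetB (iterT TS' e4 y) fun t4 =>
  natLetB (Nat.land c 7) fun kind => natLetB (Nat.land (Nat.shiftRight c 3) 2047) fun z =>
  natLetB (Nat.shiftRight c 14) fun H =>
    cond (Nat.beq kind 0) (chkGood K Ll u1 u2 u3 u4 t1 t2 t3 t4 z)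
      (cond (Nat.beq kind 1) (chkBad TS TS' u1 u2 u3 u4 t1 t2 t3 t4 z H)
        (cond (Nat.beq kind 2) (chkNeg2 t1 t2 H)
          (cond (Nat.beq kind 3) (chkNeg3 t1 t2 t3 H)
            (cond (Nat.beq kind 4) (chkNeg4 t1 t2 t3 t4 H) false))))

/-- the certificate number `y` of a list of blocks of 256 certificates -/
noncomputable def certAt (cs : List (List ℕ)) (y : ℕ) : ℕ :=
  nthN (nthL cs (Nat.shiftRight y 8)) (Nat.land y 255)

/-- the check for the image `y`, for all `y` -/
noncomputable def candAll (TS TS' u1 u2 u3 u4 e1 e2 e3 e4 K : ℕ) (Ll : List ℕ)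
    (cs : List (List ℕ)) (y : ℕ) : Bool :=
  Nat.ble 1782 y || candChk TS TS' u1 u2 u3 u4 e1 e2 e3 e4 K Ll (certAt cs y) y

theorem cand_sound {TS TS' : ℕ} {s s' : Cfsg.Spor.Suz}
    (hS : ∀ i, i < 1782 → pt s i = tabAt TS i) (hS' : ∀ i, i < 1782 → pt s' i = tabAt TS' i)
    {u1 u2 u3 u4 q e1 e2 e3 e4 K : ℕ} {Ll : List ℕ} {cs : List (List ℕ)}
    (g0 : Cfsg.Spor.Suz) (hq : q < 1782)
    (h1 : pt g0 0 = u1) (h2 : pt g0 1 = u2) (h3 : pt g0 2 = u3) (h4 : pt g0 160 = u4)
    (hu1 : iterT TS e1 q = u1) (hu2 : iterT TS e2 q = u2) (hu3 : iterT TS e3 q = u3)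
    (hu4 : iterT TS e4 q = u4)
    (hchk : ∀ y, y < 1782 → candAll TS TS' u1 u2 u3 u4 e1 e2 e3 e4 K Ll cs y = true)
    (h : Cfsg.Spor.Suz) (hh : h * s = s' * h) : ∃ idx, idx < K ∧ h = wvP (nthN Ll idx) := by
  have conj : ∀ e : ℕ, pt h (iterT TS e q) = iterT TS' e (pt h q) := by
    intro e
    induction e with
    | zero => rfl
    | succ e ih =>
      have hlt := iterT_lt hS e hq
      rw [iterT_succ, ← hS _ hlt, ← pt_mul, hh, pt_mul, ih, iterT_succ, hS' _ (by
        rw [← ih]; exact pt_lt _ hlt)]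
  have hy : pt h q < 1782 := pt_lt _ hq
  have l1 : u1 < 1782 := by rw [← h1]; exact pt_lt _ (by norm_num)
  have l2 : u2 < 1782 := by rw [← h2]; exact pt_lt _ (by norm_num)
  have l3 : u3 < 1782 := by rw [← h3]; exact pt_lt _ (by norm_num)
  have l4 : u4 < 1782 := by rw [← h4]; exact pt_lt _ (by norm_num)
  have k1 : pt h u1 = iterT TS' e1 (pt h q) := by rw [← hu1, conj]
  have k2 : pt h u2 = iterT TS' e2 (pt h q) := by rw [← hu2, conj]
  have k3 : pt h u3 = iterT TS' e3 (pt h q) := by rw [← hu3, conj]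
  have k4 : pt h u4 = iterT TS' e4 (pt h q) := by rw [← hu4, conj]
  have m1 : iterT TS' e1 (pt h q) < 1782 := by rw [← k1]; exact pt_lt _ l1
  have m2 : iterT TS' e2 (pt h q) < 1782 := by rw [← k2]; exact pt_lt _ l2
  have m3 : iterT TS' e3 (pt h q) < 1782 := by rw [← k3]; exact pt_lt _ l3
  have m4 : iterT TS' e4 (pt h q) < 1782 := by rw [← k4]; exact pt_lt _ l4
  have c := hchk _ hy
  unfold candAll at c
  rw [Bool.or_eq_true] at c
  rcases c with c | c
  · exact absurd (Nat.le_of_ble_eq_true c) (by omega)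
  unfold candChk at c
  simp only [natLetB_eq] at c
  generalize iterT TS' e1 (pt h q) = t1 at *
  generalize iterT TS' e2 (pt h q) = t2 at *
  generalize iterT TS' e3 (pt h q) = t3 at *
  generalize iterT TS' e4 (pt h q) = t4 at *
  generalize Nat.land (certAt cs (pt h q)) 7 = kind at c
  generalize Nat.land (Nat.shiftRight (certAt cs (pt h q)) 3) 2047 = z at c
  generalize Nat.shiftRight (certAt cs (pt h q)) 14 = H at c
  -- an element with the same images of the four points as `h`
  have same : ∀ H0 : ℕ, wk H0 u1 = t1 → wk H0 u2 = t2 → wk H0 u3 = t3 → wk H0 u4 = t4 →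
      h = wvP H0 := by
    intro H0 a1 a2 a3 a4
    have e : h * g0 = wvP H0 * g0 := by
      apply eq_of_base
      · rw [pt_mul, pt_mul, h1, k1, pt_wvP _ l1, a1]
      · rw [pt_mul, pt_mul, h2, k2, pt_wvP _ l2, a2]
      · rw [pt_mul, pt_mul, h3, k3, pt_wvP _ l3, a3]
      · rw [pt_mul, pt_mul, h4, k4, pt_wvP _ l4, a4]
    exact mul_right_cancel e
  -- the images of the base under `wvP H * (h * g0)`
  have im1 : ∀ H0 : ℕ, pt (wvP H0 * (h * g0)) 0 = wk H0 t1 := by
    intro H0; rw [pt_mul, pt_mul, h1, k1, pt_wvP _ m1]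
  have im2 : ∀ H0 : ℕ, pt (wvP H0 * (h * g0)) 1 = wk H0 t2 := by
    intro H0; rw [pt_mul, pt_mul, h2, k2, pt_wvP _ m2]
  have im3 : ∀ H0 : ℕ, pt (wvP H0 * (h * g0)) 2 = wk H0 t3 := by
    intro H0; rw [pt_mul, pt_mul, h3, k3, pt_wvP _ m3]
  have im4 : ∀ H0 : ℕ, pt (wvP H0 * (h * g0)) 160 = wk H0 t4 := by
    intro H0; rw [pt_mul, pt_mul, h4, k4, pt_wvP _ m4]
  cases hk0 : Nat.beq kind 0 with
  | true =>
    rw [hk0, cond_true] at c
    unfold chkGood at c
    rw [natLetB_eq] at c
    simp only [Bool.and_eq_true] at c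
    obtain ⟨c0, c1, c2, c3, c4⟩ := c
    exact ⟨z, Nat.blt_eq.mp c0, same _ (Nat.eq_of_beq_eq_true c1) (Nat.eq_of_beq_eq_true c2)
      (Nat.eq_of_beq_eq_true c3) (Nat.eq_of_beq_eq_true c4)⟩
  | false =>
    rw [hk0, cond_false] at c
    exfalso
    cases hk1 : Nat.beq kind 1 with
    | true =>
      rw [hk1, cond_true] at c
      unfold chkBad at c
      simp only [Bool.and_eq_true] at c
      obtain ⟨c0, c1, c2, c3, c4, c5⟩ := c
      have hz : z < 1782 := Nat.blt_eq.mp c0
      have e := same _ (Nat.eq_of_beq_eq_true c1) (Nat.eq_of_beq_eq_true c2)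
        (Nat.eq_of_beq_eq_true c3) (Nat.eq_of_beq_eq_true c4)
      have e1 : pt (h * s) z = wk H (tabAt TS z) := by
        rw [pt_mul, hS z hz, e, pt_wvP _ (by rw [← hS z hz]; exact pt_lt _ hz)]
      have e2 : pt (s' * h) z = tabAt TS' (wk H z) := by
        rw [pt_mul, hS' _ (pt_lt _ hz), e, pt_wvP _ hz]
      rw [hh, e2] at e1
      rw [← e1, Nat.beq_refl] at c5
      exact absurd c5 (by decide)
    | false =>
      rw [hk1, cond_false] at c
      cases hk2 : Nat.beq kind 2 with
      | true =>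
        rw [hk2, cond_true] at c
        unfold chkNeg2 at c
        simp only [Bool.and_eq_true] at c
        obtain ⟨c1, c2⟩ := c
        obtain ⟨t, ht, e⟩ := orb2 (wvP H * (h * g0))
          (by rw [im1]; exact Nat.eq_of_beq_eq_true c1)
        rw [im2] at e
        exact notOrb_spec _ _ _ _ op2_ov2 c2 t ht e.symm
      | false =>
        rw [hk2, cond_false] at c
        cases hk3 : Nat.beq kind 3 with
        | true =>
          rw [hk3, cond_true] at c
          unfold chkNeg3 at c
          simp only [Bool.and_eq_true] at c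
          obtain ⟨c1, c2, c3⟩ := c
          obtain ⟨t, ht, e⟩ := orb3 (wvP H * (h * g0))
            (by rw [im1]; exact Nat.eq_of_beq_eq_true c1)
            (by rw [im2]; exact Nat.eq_of_beq_eq_true c2)
          rw [im3] at e
          exact notOrb_spec _ _ _ _ op3_ov3 c3 t ht e.symm
        | false =>
          rw [hk3, cond_false] at c
          cases hk4 : Nat.beq kind 4 with
          | true =>
            rw [hk4, cond_true] at c
            unfold chkNeg4 at c
            simp only [Bool.and_eq_true] at c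
            obtain ⟨c1, c2, c3, c4⟩ := c
            obtain ⟨t, ht, e⟩ := orb4 (wvP H * (h * g0))
              (by rw [im1]; exact Nat.eq_of_beq_eq_true c1)
              (by rw [im2]; exact Nat.eq_of_beq_eq_true c2)
              (by rw [im3]; exact Nat.eq_of_beq_eq_true c3)
            rw [im4] at e
            exact notOrb_spec _ _ _ _ op4_ov4 c4 t ht e.symm
          | false =>
            rw [hk4, cond_false] at c
            exact absurd c (by decide)

end Cfsg.Agent.Helper56.SuzOut
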