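/-
Helper56 library: the kernel checks on the data for the outer automorphism group of `Suz`.
-/
import Cfsg.Agent.Helper56.Suz.Cand
import Cfsg.Agent.Helper56.Suz.Data

set_option autoImplicit false

namespace Cfsg.Agent.Helper56.SuzOut

open Cfsg.Agent.Helper28

/-- the table `N` is the permutation of the packed word `W` -/
noncomputable def tabChk (W N i : ℕ) : Bool := Nat.ble 1782 i || Nat.beq (wk W i) (tabAt N i)

/-- the table `TA2` is the square of the table `TA` -/
noncomputable def sqChk (i : ℕ) : Bool :=
  Nat.ble 1782 i || Nat.beq (tabAt TA2 i) (tabAt TA (tabAt TA i))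

/-- the table `TTi` is the inverse of the table `TT` -/
noncomputable def invChk (i : ℕ) : Bool :=
  Nat.ble 1782 i || natLetB (tabAt TTi i) fun j => Nat.blt j 1782 && Nat.beq (tabAt TT j) i

/-- the image of `y` under the `e`-th power of a function -/
noncomputable def iterF (f : ℕ → ℕ) (e y : ℕ) : ℕ :=
  Nat.rec (motive := fun _ => ℕ) y (fun _ ih => natLetN ih f) e

theorem iterF_succ (f : ℕ → ℕ) (e y : ℕ) : iterF f (e + 1) y = f (iterF f e y) := by
  show natLetN (iterF f e y) f = _
  rw [natLetN_eq]

theorem pt_pow_iterF {g : Cfsg.Spor.Suz} {f : ℕ → ℕ} (hf : ∀ i, i < 1782 → pt g i = f i)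
    (e : ℕ) {z : ℕ} (hz : z < 1782) : pt (g ^ e) z = iterF f e z := by
  induction e with
  | zero => rw [pow_zero, pt_one]; rfl
  | succ e ih =>
    have hlt : iterF f e z < 1782 := by rw [← ih]; exact pt_lt _ hz
    rw [pow_succ', pt_mul, ih, hf _ hlt, iterF_succ]

/-- a property of the four base points -/
noncomputable def base4 (p : ℕ → Bool) : Bool := p 0 && (p 1 && (p 2 && p 160))

theorem base4_spec (p : ℕ → Bool) (h : base4 p = true) :
    p 0 = true ∧ p 1 = true ∧ p 2 = true ∧ p 160 = true := by
  unfold base4 at h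
  simp only [Bool.and_eq_true] at h
  exact h

/-- the word number `k` of `LA` is the `k`-th power of `a` -/
noncomputable def laChk (k : ℕ) : Bool :=
  Nat.ble 13 k || natLetB (nthN LA k) fun H => base4 fun b => Nat.beq (wk H b) (iterT TA k b)

/-- the base point number `j` -/
noncomputable def bpt (j : ℕ) : ℕ := nthN [0, 1, 2, 160] j

/-- the inverter number `idx` of `t` is `x`, or fails one of the two relations of `x` -/
noncomputable def hexChk (idx : ℕ) : Bool :=
  Nat.ble 72 idx || natLetB (nthN LX idx) fun H => natLetB (nthN hexD idx) fun d =>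
    cond (Nat.beq d 8) (Nat.beq H WX)
      (cond (Nat.blt d 4)
        (natLetB (bpt d) fun b => !(Nat.beq (iterF (fun i => tabAt TA (wk H i)) 11 b) b))
        (natLetB (bpt (Nat.sub d 4)) fun b =>
          !(Nat.beq (iterF (fun i => tabAt TA2 (wk H i)) 14 b) b)))

/-- the tables of `a`, `t`, `x` -/
noncomputable def tab3 (c i : ℕ) : ℕ := tabAt (nthN [TA, TT, TX] c) i

/-- the generator `k` is the value of its word in `a`, `t`, `x` -/
noncomputable def genChk (k : ℕ) : Bool :=
  Nat.ble 7 k || (letChk 3 (nthL genSW k) &&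
    base4 fun b => Nat.beq (C1680.T k b) (walkA tab3 (nthL genSW k) b))

/-- the swap of the generators `f` and `g` -/
def swL (k : ℕ) : ℕ := cond (Nat.beq k 5) 6 (cond (Nat.beq k 6) 5 k)

/-- a relator word with `f` and `g` swapped is trivial -/
noncomputable def relChk (l : List ℕ) : Bool :=
  letChk 7 l && base4 fun b => Nat.beq (walkA C1680.T (l.map swL) b) b

end Cfsg.Agent.Helper56.SuzOut
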