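/-
Helper56 library: kernel-checked certificates for the outer automorphism group of `Suz` (no conjugation of a to its square).
-/
import Cfsg.Agent.Helper56.Suz.ChkDefs

set_option autoImplicit false

namespace Cfsg.Agent.Helper56.SuzOut

open Cfsg.Agent.Helper28

theorem scanB_0 : rgAll (candAll TA TA2 1 49 244 723 0 1 2 3 0 [] certB) 8 (2 ^ 8 * 0) = true := by decide +kernel
theorem scanB_1 : rgAll (candAll TA TA2 1 49 244 723 0 1 2 3 0 [] certB) 8 (2 ^ 8 * 1) = true := by decide +kernel
theorem scanB_2 : rgAll (candAll TA TA2 1 49 244 723 0 1 2 3 0 [] certB) 8 (2 ^ 8 * 2) = true := by decide +kernel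
theorem scanB_3 : rgAll (candAll TA TA2 1 49 244 723 0 1 2 3 0 [] certB) 8 (2 ^ 8 * 3) = true := by decide +kernel
theorem scanB_4 : rgAll (candAll TA TA2 1 49 244 723 0 1 2 3 0 [] certB) 8 (2 ^ 8 * 4) = true := by decide +kernel
theorem scanB_5 : rgAll (candAll TA TA2 1 49 244 723 0 1 2 3 0 [] certB) 8 (2 ^ 8 * 5) = true := by decide +kernel
theorem scanB_6 : rgAll (candAll TA TA2 1 49 244 723 0 1 2 3 0 [] certB) 8 (2 ^ 8 * 6) = true := by decide +kernel

end Cfsg.Agent.Helper56.SuzOut
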