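/-
Helper56 library: kernel-checked certificates for the outer automorphism group of `Suz` (single checks).
-/
import Cfsg.Agent.Helper56.Suz.ChkDefs

set_option autoImplicit false

namespace Cfsg.Agent.Helper56.SuzOut

open Cfsg.Agent.Helper28

theorem g0A_ok : (Nat.beq (wk W0A 0) 1 && (Nat.beq (wk W0A 1) 49 && (Nat.beq (wk W0A 2) 244 &&
    Nat.beq (wk W0A 160) 723))) = true := by decide +kernel

theorem uA_ok : (Nat.beq (iterT TA 0 1) 1 && (Nat.beq (iterT TA 1 1) 49 && (Nat.beq (iterT TA 2 1) 244 &&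
    Nat.beq (iterT TA 3 1) 723))) = true := by decide +kernel

theorem g0T_ok : (Nat.beq (wk W0T 0) 5 && (Nat.beq (wk W0T 1) 1029 && (Nat.beq (wk W0T 2) 625 &&
    Nat.beq (wk W0T 160) 1719))) = true := by decide +kernel

theorem uT_ok : (Nat.beq (iterT TT 0 5) 5 && (Nat.beq (iterT TT 1 5) 1029 && (Nat.beq (iterT TT 2 5) 625 &&
    Nat.beq (iterT TT 3 5) 1719))) = true := by decide +kernel

theorem ordA_ok : base4 (fun b => Nat.beq (iterT TA 13 b) b) = true := by decide +kernel

theorem neA_ok : Nat.beq (tabAt TA 1) 1 = false := by decide +kernel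

theorem relTA_ok : base4 (fun b => Nat.beq (tabAt TT (tabAt TA b)) (iterT TA 4 (tabAt TT b))) = true := by
  decide +kernel

theorem relXT_ok : base4 (fun b => Nat.beq (tabAt TX (tabAt TT b)) (tabAt TTi (tabAt TX b))) = true := by
  decide +kernel

theorem ax_ok : base4 (fun b => Nat.beq (iterF (fun i => tabAt TA (tabAt TX i)) 11 b) b) = true := by
  decide +kernel

theorem aax_ok : base4 (fun b => Nat.beq (iterF (fun i => tabAt TA2 (tabAt TX i)) 14 b) b) = true := by
  decide +kernel

theorem la_0 : rgAll (laChk) 4 (2 ^ 4 * 0) = true := by decide +kernel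
theorem hex_0 : rgAll (hexChk) 7 (2 ^ 7 * 0) = true := by decide +kernel
theorem gen_0 : rgAll (genChk) 3 (2 ^ 3 * 0) = true := by decide +kernel

theorem rel_ok : listAll (C1680.pairs.map (fun p => pairWord p.1 p.2.1 p.2.2) ++ C1680.extraL) relChk = true := by
  decide +kernel

theorem wap_ok : (unpackW 1024 WA).map swL = unpackW 1024 WAP := by decide +kernel

theorem vrel_ok : base4 (fun b => Nat.beq (wk WV (wk WAP b)) (tabAt TA2 (wk WV b))) = true := by
  decide +kernel

end Cfsg.Agent.Helper56.SuzOut
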