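/-
Helper56 library: kernel-checked certificates for the outer automorphism group of `Suz` (tables).
-/
import Cfsg.Agent.Helper56.Suz.ChkDefs

set_option autoImplicit false

namespace Cfsg.Agent.Helper56.SuzOut

open Cfsg.Agent.Helper28

theorem tabA_0 : rgAll (tabChk WA TA) 8 (2 ^ 8 * 0) = true := by decide +kernel
theorem tabA_1 : rgAll (tabChk WA TA) 8 (2 ^ 8 * 1) = true := by decide +kernel
theorem tabA_2 : rgAll (tabChk WA TA) 8 (2 ^ 8 * 2) = true := by decide +kernel
theorem tabA_3 : rgAll (tabChk WA TA) 8 (2 ^ 8 * 3) = true := by decide +kernel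
theorem tabA_4 : rgAll (tabChk WA TA) 8 (2 ^ 8 * 4) = true := by decide +kernel
theorem tabA_5 : rgAll (tabChk WA TA) 8 (2 ^ 8 * 5) = true := by decide +kernel
theorem tabA_6 : rgAll (tabChk WA TA) 8 (2 ^ 8 * 6) = true := by decide +kernel
theorem tabT_0 : rgAll (tabChk WT TT) 8 (2 ^ 8 * 0) = true := by decide +kernel
theorem tabT_1 : rgAll (tabChk WT TT) 8 (2 ^ 8 * 1) = true := by decide +kernel
theorem tabT_2 : rgAll (tabChk WT TT) 8 (2 ^ 8 * 2) = true := by decide +kernel
theorem tabT_3 : rgAll (tabChk WT TT) 8 (2 ^ 8 * 3) = true := by decide +kernel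
theorem tabT_4 : rgAll (tabChk WT TT) 8 (2 ^ 8 * 4) = true := by decide +kernel
theorem tabT_5 : rgAll (tabChk WT TT) 8 (2 ^ 8 * 5) = true := by decide +kernel
theorem tabT_6 : rgAll (tabChk WT TT) 8 (2 ^ 8 * 6) = true := by decide +kernel
theorem tabX_0 : rgAll (tabChk WX TX) 8 (2 ^ 8 * 0) = true := by decide +kernel
theorem tabX_1 : rgAll (tabChk WX TX) 8 (2 ^ 8 * 1) = true := by decide +kernel
theorem tabX_2 : rgAll (tabChk WX TX) 8 (2 ^ 8 * 2) = true := by decide +kernel
theorem tabX_3 : rgAll (tabChk WX TX) 8 (2 ^ 8 * 3) = true := by decide +kernel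
theorem tabX_4 : rgAll (tabChk WX TX) 8 (2 ^ 8 * 4) = true := by decide +kernel
theorem tabX_5 : rgAll (tabChk WX TX) 8 (2 ^ 8 * 5) = true := by decide +kernel
theorem tabX_6 : rgAll (tabChk WX TX) 8 (2 ^ 8 * 6) = true := by decide +kernel
theorem sqA_0 : rgAll (sqChk) 11 (2 ^ 11 * 0) = true := by decide +kernel
theorem invT_0 : rgAll (invChk) 11 (2 ^ 11 * 0) = true := by decide +kernel

end Cfsg.Agent.Helper56.SuzOut
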