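/-
Helper56 library: the outer automorphism group of `Suz` has order 2.  The hypotheses of the
criterion `card_out_abs13`: an element `a` of order 13 that is its own centraliser, an element
`t` with `t a t⁻¹ = a⁴`, the 72 elements inverting `t`, the involution `x` among them, generation
by `a`, `t`, `x`, and the automorphism exchanging the generators `f` and `g`, which maps `a` to a
conjugate of `a²`, while `a` is not conjugate to `a²`.
-/
import Cfsg.Agent.Helper56.Suz.ChkTab
import Cfsg.Agent.Helper56.Suz.ChkA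
import Cfsg.Agent.Helper56.Suz.ChkB
import Cfsg.Agent.Helper56.Suz.ChkC
import Cfsg.Agent.Helper56.Suz.ChkMisc
import Cfsg.Agent.Helper56.Suz.Crit
import Cfsg.Agent.Helper28.TCH
import Cfsg.Agent.Helper28.TCL2

set_option autoImplicit false

namespace Cfsg.Agent.Helper56.SuzOut

open Cfsg.Agent.Helper28

/-- the element of order 13 -/
noncomputable def aE : Cfsg.Spor.Suz := wvP WA
/-- an element of order 6 normalising `⟨a⟩` -/
noncomputable def tE : Cfsg.Spor.Suz := wvP WT
/-- an involution inverting `t` -/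
noncomputable def xE : Cfsg.Spor.Suz := wvP WX
/-- an element conjugating the image of `a` under the graph automorphism to `a²` -/
noncomputable def vE : Cfsg.Spor.Suz := wvP WV

/-! ### the tables -/

theorem tab_of_chk (W N : ℕ) (h : ∀ k, k < 7 → rgAll (tabChk W N) 8 (2 ^ 8 * k) = true) :
    ∀ i, i < 1782 → pt (wvP W) i = tabAt N i := by
  intro i hi
  have c := rg_cover _ 8 7 h i (by norm_num; omega)
  unfold tabChk at c
  rw [Bool.or_eq_true] at c
  rcases c with c | c
  · exact absurd (Nat.le_of_ble_eq_true c) (by omega)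
  · rw [pt_wvP _ hi]; exact Nat.eq_of_beq_eq_true c

theorem tabA : ∀ i, i < 1782 → pt aE i = tabAt TA i :=
  tab_of_chk WA TA (fun k hk => by
    interval_cases k
    · exact tabA_0
    · exact tabA_1
    · exact tabA_2
    · exact tabA_3
    · exact tabA_4
    · exact tabA_5
    · exact tabA_6)

theorem tabT : ∀ i, i < 1782 → pt tE i = tabAt TT i :=
  tab_of_chk WT TT (fun k hk => by
    interval_cases k
    · exact tabT_0
    · exact tabT_1
    · exact tabT_2
    · exact tabT_3
    · exact tabT_4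
    · exact tabT_5
    · exact tabT_6)

theorem tabX : ∀ i, i < 1782 → pt xE i = tabAt TX i :=
  tab_of_chk WX TX (fun k hk => by
    interval_cases k
    · exact tabX_0
    · exact tabX_1
    · exact tabX_2
    · exact tabX_3
    · exact tabX_4
    · exact tabX_5
    · exact tabX_6)

theorem tab_lt {g : Cfsg.Spor.Suz} {N : ℕ} (h : ∀ i, i < 1782 → pt g i = tabAt N i) {b : ℕ}
    (hb : b < 1782) : tabAt N b < 1782 := by
  rw [← h b hb]; exact pt_lt _ hb

theorem tabA2 : ∀ i, i < 1782 → pt (aE ^ 2) i = tabAt TA2 i := by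
  intro i hi
  have c := rg_cover sqChk 11 1 (fun k hk => by interval_cases k; exact sqA_0) i
    (by norm_num; omega)
  unfold sqChk at c
  rw [Bool.or_eq_true] at c
  rcases c with c | c
  · exact absurd (Nat.le_of_ble_eq_true c) (by omega)
  · rw [pow_two, pt_mul, tabA i hi, tabA _ (tab_lt tabA hi)]
    exact (Nat.eq_of_beq_eq_true c).symm

theorem tabTi : ∀ i, i < 1782 → pt tE⁻¹ i = tabAt TTi i := by
  intro i hi
  have c := rg_cover invChk 11 1 (fun k hk => by interval_cases k; exact invT_0) i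
    (by norm_num; omega)
  unfold invChk at c
  rw [Bool.or_eq_true] at c
  rcases c with c | c
  · exact absurd (Nat.le_of_ble_eq_true c) (by omega)
  · rw [natLetB_eq, Bool.and_eq_true] at c
    have hj : tabAt TTi i < 1782 := Nat.blt_eq.mp c.1
    have e : pt tE (tabAt TTi i) = i := by
      rw [tabT _ hj]; exact Nat.eq_of_beq_eq_true c.2
    calc pt tE⁻¹ i = pt tE⁻¹ (pt tE (tabAt TTi i)) := by rw [e]
      _ = tabAt TTi i := pt_inv_cancel _ _

/-- equality of two elements through their images of the base -/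
theorem eq_of_base4 (x y : Cfsg.Spor.Suz) (f g : ℕ → ℕ)
    (hx : ∀ b, b < 1782 → pt x b = f b) (hy : ∀ b, b < 1782 → pt y b = g b)
    (h : base4 (fun b => Nat.beq (f b) (g b)) = true) : x = y := by
  obtain ⟨h0, h1, h2, h3⟩ := base4_spec _ h
  apply eq_of_base
  · rw [hx 0 (by norm_num), hy 0 (by norm_num)]; exact Nat.eq_of_beq_eq_true h0
  · rw [hx 1 (by norm_num), hy 1 (by norm_num)]; exact Nat.eq_of_beq_eq_true h1
  · rw [hx 2 (by norm_num), hy 2 (by norm_num)]; exact Nat.eq_of_beq_eq_true h2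
  · rw [hx 160 (by norm_num), hy 160 (by norm_num)]; exact Nat.eq_of_beq_eq_true h3

/-! ### the relations -/

theorem order_a : orderOf aE = 13 := by
  have : Fact (Nat.Prime 13) := ⟨by norm_num⟩
  refine orderOf_eq_prime ?_ ?_
  · exact eq_of_base4 _ 1 (fun b => iterT TA 13 b) (fun b => b)
      (fun b hb => pt_pow_tab tabA 13 hb) (fun b _ => pt_one b) ordA_ok
  · intro h
    have h1 := tabA 1 (by norm_num)
    rw [h, pt_one] at h1
    have h2 := neA_ok
    rw [← h1] at h2
    exact absurd h2 (by decide)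

theorem t_conj_a : tE * aE * tE⁻¹ = aE ^ 4 := by
  have e : tE * aE = aE ^ 4 * tE :=
    eq_of_base4 _ _ (fun b => tabAt TT (tabAt TA b)) (fun b => iterT TA 4 (tabAt TT b))
      (fun b hb => by rw [pt_mul, tabA b hb, tabT _ (tab_lt tabA hb)])
      (fun b hb => by rw [pt_mul, tabT b hb, pt_pow_tab tabA 4 (tab_lt tabT hb)]) relTA_ok
  rw [e, mul_inv_cancel_right]

theorem x_conj_t : xE * tE * xE⁻¹ = tE⁻¹ := by
  have e : xE * tE = tE⁻¹ * xE :=
    eq_of_base4 _ _ (fun b => tabAt TX (tabAt TT b)) (fun b => tabAt TTi (tabAt TX b))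
      (fun b hb => by rw [pt_mul, tabT b hb, tabX _ (tab_lt tabT hb)])
      (fun b hb => by rw [pt_mul, tabX b hb, tabTi _ (tab_lt tabX hb)]) relXT_ok
  rw [e, mul_inv_cancel_right]

theorem ax_pow : (aE * xE) ^ 11 = 1 :=
  eq_of_base4 _ 1 (fun b => iterF (fun i => tabAt TA (tabAt TX i)) 11 b) (fun b => b)
    (fun b hb => pt_pow_iterF (fun i hi => by rw [pt_mul, tabX i hi, tabA _ (tab_lt tabX hi)])
      11 hb)
    (fun b _ => pt_one b) ax_ok

theorem aax_pow : (aE ^ 2 * xE) ^ 14 = 1 :=
  eq_of_base4 _ 1 (fun b => iterF (fun i => tabAt TA2 (tabAt TX i)) 14 b) (fun b => b)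
    (fun b hb => pt_pow_iterF (fun i hi => by rw [pt_mul, tabX i hi, tabA2 _ (tab_lt tabX hi)])
      14 hb)
    (fun b _ => pt_one b) aax_ok

/-! ### the three scans -/

theorem scanA_all (y : ℕ) (hy : y < 1782) :
    candAll TA TA 1 49 244 723 0 1 2 3 13 LA certA y = true := by
  refine rg_cover _ 8 7 (fun k hk => ?_) y (by norm_num; omega)
  interval_cases k
  · exact scanA_0
  · exact scanA_1
  · exact scanA_2
  · exact scanA_3
  · exact scanA_4
  · exact scanA_5
  · exact scanA_6

theorem scanB_all (y : ℕ) (hy : y < 1782) :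
    candAll TA TA2 1 49 244 723 0 1 2 3 0 [] certB y = true := by
  refine rg_cover _ 8 7 (fun k hk => ?_) y (by norm_num; omega)
  interval_cases k
  · exact scanB_0
  · exact scanB_1
  · exact scanB_2
  · exact scanB_3
  · exact scanB_4
  · exact scanB_5
  · exact scanB_6

theorem scanC_all (y : ℕ) (hy : y < 1782) :
    candAll TT TTi 5 1029 625 1719 0 1 2 3 72 LX certC y = true := by
  refine rg_cover _ 8 7 (fun k hk => ?_) y (by norm_num; omega)
  interval_cases k
  · exact scanC_0
  · exact scanC_1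
  · exact scanC_2
  · exact scanC_3
  · exact scanC_4
  · exact scanC_5
  · exact scanC_6

theorem and4 {a b c d : Bool} (h : (a && (b && (c && d))) = true) :
    a = true ∧ b = true ∧ c = true ∧ d = true := by
  simp only [Bool.and_eq_true] at h
  exact h

/-- The element `a` of order 13 is its own centraliser. -/
theorem cent_a (c : Cfsg.Spor.Suz) (hc : c * aE = aE * c) : c ∈ Subgroup.zpowers aE := by
  obtain ⟨g1, g2, g3, g4⟩ := and4 g0A_ok
  obtain ⟨v1, v2, v3, v4⟩ := and4 uA_ok
  obtain ⟨idx, hidx, e⟩ := cand_sound tabA tabA (wvP W0A) (by norm_num)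
    (by rw [pt_wvP _ (by norm_num)]; exact Nat.eq_of_beq_eq_true g1)
    (by rw [pt_wvP _ (by norm_num)]; exact Nat.eq_of_beq_eq_true g2)
    (by rw [pt_wvP _ (by norm_num)]; exact Nat.eq_of_beq_eq_true g3)
    (by rw [pt_wvP _ (by norm_num)]; exact Nat.eq_of_beq_eq_true g4)
    (Nat.eq_of_beq_eq_true v1) (Nat.eq_of_beq_eq_true v2) (Nat.eq_of_beq_eq_true v3)
    (Nat.eq_of_beq_eq_true v4) scanA_all c hc
  have l := rg_cover laChk 4 1 (fun k hk => by interval_cases k; exact la_0) idx
    (by norm_num; omega)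
  unfold laChk at l
  rw [Bool.or_eq_true] at l
  rcases l with l | l
  · exact absurd (Nat.le_of_ble_eq_true l) (by omega)
  rw [natLetB_eq] at l
  have e2 : wvP (nthN LA idx) = aE ^ idx :=
    eq_of_base4 _ _ (fun b => wk (nthN LA idx) b) (fun b => iterT TA idx b)
      (fun b hb => pt_wvP _ hb) (fun b hb => pt_pow_tab tabA idx hb) l
  rw [e, e2]
  exact Subgroup.pow_mem _ (Subgroup.mem_zpowers _) idx

/-- No element conjugates `a` to its square. -/
theorem no_sq_a (y : Cfsg.Spor.Suz) (hy : y * aE = aE ^ 2 * y) : False := by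
  obtain ⟨g1, g2, g3, g4⟩ := and4 g0A_ok
  obtain ⟨v1, v2, v3, v4⟩ := and4 uA_ok
  obtain ⟨idx, hidx, _⟩ := cand_sound tabA tabA2 (wvP W0A) (by norm_num)
    (by rw [pt_wvP _ (by norm_num)]; exact Nat.eq_of_beq_eq_true g1)
    (by rw [pt_wvP _ (by norm_num)]; exact Nat.eq_of_beq_eq_true g2)
    (by rw [pt_wvP _ (by norm_num)]; exact Nat.eq_of_beq_eq_true g3)
    (by rw [pt_wvP _ (by norm_num)]; exact Nat.eq_of_beq_eq_true g4)
    (Nat.eq_of_beq_eq_true v1) (Nat.eq_of_beq_eq_true v2) (Nat.eq_of_beq_eq_true v3)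
    (Nat.eq_of_beq_eq_true v4) scanB_all y hy
  exact absurd hidx (by omega)

theorem bpt_lt (j : ℕ) : bpt j < 1782 := by
  rcases j with _ | _ | _ | _ | j
  · show (0 : ℕ) < 1782; norm_num
  · show (1 : ℕ) < 1782; norm_num
  · show (2 : ℕ) < 1782; norm_num
  · show (160 : ℕ) < 1782; norm_num
  · show (0 : ℕ) < 1782; norm_num

/-- The involution `x` is the only element inverting `t` with the two relations. -/
theorem excl (y : Cfsg.Spor.Suz) (hy : y * tE = tE⁻¹ * y) (h11 : (aE * y) ^ 11 = 1)
    (h14 : (aE ^ 2 * y) ^ 14 = 1) : y = xE := by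
  obtain ⟨g1, g2, g3, g4⟩ := and4 g0T_ok
  obtain ⟨v1, v2, v3, v4⟩ := and4 uT_ok
  obtain ⟨idx, hidx, e⟩ := cand_sound tabT tabTi (wvP W0T) (by norm_num)
    (by rw [pt_wvP _ (by norm_num)]; exact Nat.eq_of_beq_eq_true g1)
    (by rw [pt_wvP _ (by norm_num)]; exact Nat.eq_of_beq_eq_true g2)
    (by rw [pt_wvP _ (by norm_num)]; exact Nat.eq_of_beq_eq_true g3)
    (by rw [pt_wvP _ (by norm_num)]; exact Nat.eq_of_beq_eq_true g4)
    (Nat.eq_of_beq_eq_true v1) (Nat.eq_of_beq_eq_true v2) (Nat.eq_of_beq_eq_true v3)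
    (Nat.eq_of_beq_eq_true v4) scanC_all y hy
  have l := rg_cover hexChk 7 1 (fun k hk => by interval_cases k; exact hex_0) idx
    (by norm_num; omega)
  unfold hexChk at l
  rw [Bool.or_eq_true] at l
  rcases l with l | l
  · exact absurd (Nat.le_of_ble_eq_true l) (by omega)
  rw [natLetB_eq, natLetB_eq] at l
  rw [e] at h11 h14
  generalize nthN LX idx = H at e l h11 h14
  generalize nthN hexD idx = d at l
  cases hd8 : Nat.beq d 8 with
  | true =>
    rw [hd8, cond_true] at l
    rw [e, Nat.eq_of_beq_eq_true l]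
    rfl
  | false =>
    rw [hd8, cond_false] at l
    exfalso
    cases hd4 : Nat.blt d 4 with
    | true =>
      rw [hd4, cond_true, natLetB_eq] at l
      have hf : ∀ i, i < 1782 → pt (aE * wvP H) i = tabAt TA (wk H i) := by
        intro i hi
        rw [pt_mul, pt_wvP _ hi, tabA _ (wk_lt _ hi)]
      have h1 := pt_pow_iterF hf 11 (bpt_lt d)
      rw [h11, pt_one] at h1
      rw [← h1, Nat.beq_refl] at l
      exact absurd l (by decide)
    | false =>
      rw [hd4, cond_false, natLetB_eq] at l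
      have hf : ∀ i, i < 1782 → pt (aE ^ 2 * wvP H) i = tabAt TA2 (wk H i) := by
        intro i hi
        rw [pt_mul, pt_wvP _ hi, tabA2 _ (wk_lt _ hi)]
      have h1 := pt_pow_iterF hf 14 (bpt_lt (Nat.sub d 4))
      rw [h14, pt_one] at h1
      rw [← h1, Nat.beq_refl] at l
      exact absurd l (by decide)

/-! ### generation -/

/-- the three generators -/
noncomputable def val3 : ℕ → Cfsg.Spor.Suz
  | 0 => aE
  | 1 => tE
  | _ => xE

theorem pt_val3 (c : ℕ) (hc : c < 3) (i : ℕ) (hi : i < 1782) : pt (val3 c) i = tab3 c i := by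
  interval_cases c
  · exact tabA i hi
  · exact tabT i hi
  · exact tabX i hi

theorem walk_val3 (l : List ℕ) (hl : ∀ c ∈ l, c < 3) {b : ℕ} (hb : b < 1782) :
    pt ((l.map val3).prod) b = walkA tab3 l b := by
  induction l with
  | nil => exact pt_one b
  | cons c l ih =>
    have ih' := ih (fun d hd => hl d (List.mem_cons_of_mem _ hd))
    rw [List.map_cons, List.prod_cons, pt_mul, ih',
      pt_val3 c (hl c List.mem_cons_self) _ (by rw [← ih']; exact pt_lt _ hb), walkA_cons]

theorem val3_mem (c : ℕ) : val3 c ∈ Subgroup.closure ({aE, tE, xE} : Set Cfsg.Spor.Suz) := by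
  rcases c with _ | _ | c
  · exact Subgroup.subset_closure (Or.inl rfl)
  · exact Subgroup.subset_closure (Or.inr (Or.inl rfl))
  · exact Subgroup.subset_closure (Or.inr (Or.inr rfl))

theorem prod_val3_mem (l : List ℕ) :
    (l.map val3).prod ∈ Subgroup.closure ({aE, tE, xE} : Set Cfsg.Spor.Suz) := by
  induction l with
  | nil => exact Subgroup.one_mem _
  | cons c l ih =>
    rw [List.map_cons, List.prod_cons]
    exact Subgroup.mul_mem _ (val3_mem c) ih

theorem gv_mem (k : ℕ) (hk : k < 7) :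
    gv k ∈ Subgroup.closure ({aE, tE, xE} : Set Cfsg.Spor.Suz) := by
  have l := rg_cover genChk 3 1 (fun j hj => by interval_cases j; exact gen_0) k
    (by norm_num; omega)
  unfold genChk at l
  rw [Bool.or_eq_true] at l
  rcases l with l | l
  · exact absurd (Nat.le_of_ble_eq_true l) (by omega)
  rw [Bool.and_eq_true] at l
  have hlet := (letChk_iff _ _).mp l.1
  have e : gv k = ((nthL genSW k).map val3).prod :=
    eq_of_base4 _ _ (fun b => C1680.T k b) (fun b => walkA tab3 (nthL genSW k) b)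
      (fun b hb => pt_gv k hk hb) (fun b hb => walk_val3 _ hlet hb) l.2
  rw [e]
  exact prod_val3_mem _

theorem gv_eq_of (k : ℕ) (hk : k < C1680.D.jc) : gv k = PresentedGroup.of (C1680.gen k) :=
  Cfsg.Agent.Helper28.coxVal_of k hk

theorem gen_top : Subgroup.closure ({aE, tE, xE} : Set Cfsg.Spor.Suz) = ⊤ := by
  rw [eq_top_iff, ← PresentedGroup.closure_range_of]
  apply (Subgroup.closure_le _).mpr
  rintro _ ⟨g0, rfl⟩
  have h0 := gv_mem 0 (by norm_num)
  have h1 := gv_mem 1 (by norm_num)
  have h2 := gv_mem 2 (by norm_num)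
  have h3 := gv_mem 3 (by norm_num)
  have h4 := gv_mem 4 (by norm_num)
  have h5 := gv_mem 5 (by norm_num)
  have h6 := gv_mem 6 (by norm_num)
  rw [gv_eq_of 0 (by decide +kernel)] at h0
  rw [gv_eq_of 1 (by decide +kernel)] at h1
  rw [gv_eq_of 2 (by decide +kernel)] at h2
  rw [gv_eq_of 3 (by decide +kernel)] at h3
  rw [gv_eq_of 4 (by decide +kernel)] at h4
  rw [gv_eq_of 5 (by decide +kernel)] at h5
  rw [gv_eq_of 6 (by decide +kernel)] at h6
  cases g0
  · exact h0
  · exact h1
  · exact h2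
  · exact h3
  · exact h4
  · exact h5
  · exact h6

/-! ### the graph automorphism -/

/-- the exchange of the generators `f` and `g` -/
def swG : Cfsg.Spor.Suz.Gen → Cfsg.Spor.Suz.Gen
  | .f => .g
  | .g => .f
  | .a => .a
  | .b => .b
  | .c => .c
  | .d => .d
  | .e => .e

/-- the images of the generators -/
noncomputable def vphi (x : Cfsg.Spor.Suz.Gen) : Cfsg.Spor.Suz := PresentedGroup.of (swG x)

theorem vphi_sq (x : Cfsg.Spor.Suz.Gen) : vphi x * vphi x = 1 := SZ.sq (swG x)

theorem vphi_gen (k : ℕ) (hk : k < 7) : vphi (C1680.gen k) = gv (swL k) := by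
  interval_cases k
  · rw [show swL 0 = 0 from rfl, gv_eq_of 0 (by decide +kernel)]; rfl
  · rw [show swL 1 = 1 from rfl, gv_eq_of 1 (by decide +kernel)]; rfl
  · rw [show swL 2 = 2 from rfl, gv_eq_of 2 (by decide +kernel)]; rfl
  · rw [show swL 3 = 3 from rfl, gv_eq_of 3 (by decide +kernel)]; rfl
  · rw [show swL 4 = 4 from rfl, gv_eq_of 4 (by decide +kernel)]; rfl
  · rw [show swL 5 = 6 from rfl, gv_eq_of 6 (by decide +kernel)]; rfl
  · rw [show swL 6 = 5 from rfl, gv_eq_of 5 (by decide +kernel)]; rfl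

theorem swL_lt (k : ℕ) (hk : k < 7) : swL k < 7 := by
  interval_cases k <;> decide

theorem prod_sw (l : List ℕ) (hl : ∀ a ∈ l, a < 7) :
    (l.map (fun k => vphi (C1680.gen k))).prod = wv (l.map swL) := by
  induction l with
  | nil => rfl
  | cons a l ih =>
    rw [List.map_cons, List.prod_cons, vphi_gen a (hl a List.mem_cons_self),
      ih (fun b hb => hl b (List.mem_cons_of_mem _ hb))]
    rfl

theorem rel_phi : ∀ l ∈ C1680.pairs.map (fun p => pairWord p.1 p.2.1 p.2.2) ++ C1680.extraL,
    (l.map (fun k => vphi (C1680.gen k))).prod = 1 := by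
  intro l hl
  have c := (listAll_iff _ _).mp rel_ok l hl
  unfold relChk at c
  rw [Bool.and_eq_true] at c
  have hlet := (letChk_iff _ _).mp c.1
  have hlet' : ∀ a ∈ l.map swL, a < 7 := by
    intro a ha
    obtain ⟨b, hb, rfl⟩ := List.mem_map.mp ha
    exact swL_lt b (hlet b hb)
  rw [prod_sw l hlet]
  exact eq_of_base4 _ 1 (fun b => walkA C1680.T (l.map swL) b) (fun b => b)
    (fun b hb => pt_wv _ hlet' hb) (fun b _ => pt_one b) c.2

/-- the graph automorphism, as a homomorphism -/
noncomputable def phiHom : Cfsg.Spor.Suz →* Cfsg.Spor.Suz :=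
  PresentedGroup.toGroup (C1680.cert.lift_rel vphi vphi_sq rel_phi)

theorem phiHom_of (x : Cfsg.Spor.Suz.Gen) : phiHom (PresentedGroup.of x) = vphi x :=
  PresentedGroup.toGroup.of _

theorem phi_invol : phiHom.comp phiHom = MonoidHom.id Cfsg.Spor.Suz := by
  apply PresentedGroup.ext
  intro x
  show phiHom (phiHom (PresentedGroup.of x)) = PresentedGroup.of x
  rw [phiHom_of]
  show phiHom (PresentedGroup.of (swG x)) = PresentedGroup.of x
  rw [phiHom_of]
  show PresentedGroup.of (swG (swG x)) = PresentedGroup.of x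
  cases x <;> rfl

/-- the graph automorphism -/
noncomputable def phi : MulAut Cfsg.Spor.Suz :=
  MonoidHom.toMulEquiv phiHom phiHom phi_invol phi_invol

theorem phi_apply (y : Cfsg.Spor.Suz) : phi y = phiHom y := rfl

theorem phi_wv (l : List ℕ) (hl : ∀ a ∈ l, a < 7) : phi (wv l) = wv (l.map swL) := by
  induction l with
  | nil => exact map_one phi
  | cons a l ih =>
    have ha : a < 7 := hl a List.mem_cons_self
    have e1 : wv (a :: l) = gv a * wv l := rfl
    have e2 : wv ((a :: l).map swL) = gv (swL a) * wv (l.map swL) := rfl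
    rw [e1, e2, map_mul, ih (fun b hb => hl b (List.mem_cons_of_mem _ hb)), phi_apply,
      gv_eq_of a (by rw [jc_eq]; exact ha), phiHom_of, vphi_gen a ha]

theorem phi_a : phi aE = wvP WAP := by
  show phi (wv (unpackW 1024 WA)) = wv (unpackW 1024 WAP)
  rw [phi_wv _ (unpackW_lt _ _), wap_ok]

theorem phi_not_inner : phi ∉ Cfsg.Inn Cfsg.Spor.Suz := by
  rintro ⟨h, hh⟩
  have e : h * aE * h⁻¹ = wvP WAP := by
    rw [← phi_a, ← hh]
    rfl
  have ev : vE * wvP WAP = aE ^ 2 * vE :=
    eq_of_base4 _ _ (fun b => wk WV (wk WAP b)) (fun b => tabAt TA2 (wk WV b))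
      (fun b hb => by rw [pt_mul, pt_wvP _ hb]; exact pt_wvP _ (wk_lt _ hb))
      (fun b hb => by rw [pt_mul]; show pt (aE ^ 2) (pt (wvP WV) b) = _
                      rw [pt_wvP _ hb, tabA2 _ (wk_lt _ hb)]) vrel_ok
  have key : (vE * h) * aE = aE ^ 2 * (vE * h) := by
    calc vE * h * aE = vE * (h * aE * h⁻¹) * h := by group
      _ = vE * wvP WAP * h := by rw [e]
      _ = aE ^ 2 * vE * h := by rw [ev]
      _ = aE ^ 2 * (vE * h) := by rw [mul_assoc]
  exact no_sq_a _ key

/-! ### the conclusion -/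

theorem card_fact : (Nat.card Cfsg.Spor.Suz).factorization 13 = 1 := by
  rw [SZ.card_eq, show (448345497600 : ℕ) = 13 * 34488115200 by norm_num,
    Nat.factorization_mul (by norm_num) (by norm_num)]
  have h1 : (13 : ℕ).factorization 13 = 1 :=
    Nat.Prime.factorization_self (by norm_num)
  have h2 : (34488115200 : ℕ).factorization 13 = 0 :=
    Nat.factorization_eq_zero_of_not_dvd (by norm_num)
  rw [Finsupp.add_apply, h1, h2]

/-- The outer automorphism group of `Suz` has order 2. -/
theorem card_out_suz : Nat.card (Cfsg.Out Cfsg.Spor.Suz) = 2 := by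
  have hfin := SZ.finite
  exact card_out_abs13 card_fact order_a t_conj_a cent_a x_conj_t 11 14 excl ax_pow aax_pow
    gen_top phi phi_not_inner

end Cfsg.Agent.Helper56.SuzOut
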